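import Cfsg.Agent.H389.R.Def
import Cfsg.Agent.H125.ReeSolv
import Cfsg.Agent.H125.TwoReeSyl
import Cfsg.Agent.LieRecognition.ReeSetup
import Cfsg.Agent.LieRecognition.ReeFinal
import Cfsg.Agent.LieRecognition.ReeTorusTw
import Cfsg.Agent.S1116
import Cfsg.Agent.S1073
import Cfsg.Agent.S1156
import Cfsg.Agent.S1157

/-!
# S3530: facts on the small Ree groups (helper829, task 2391)
-/

set_option autoImplicit false
set_option linter.unusedSectionVars false

namespace Cfsg.Agent.H389.RSq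

open Subgroup
open Cfsg.Agent.H389.JSq (Has)

universe u v

namespace H829Ree

/-! ### transport -/

section transport

variable {L : Type u} {R : Type v} [Group L] [Group R]

theorem mem_map_iff (e : R ≃* L) (U : Subgroup R) (x : R) : e x ∈ U.map e.toMonoidHom ↔ x ∈ U := by
  constructor
  · rintro ⟨y, hy, h⟩
    have : y = x := e.injective h
    rwa [← this]
  · intro h; exact ⟨x, h, rfl⟩

theorem mem_normalizer_map (e : R ≃* L) {U : Subgroup R} {x : R} (hx : x ∈ normalizer (U : Set R)) :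
    e x ∈ normalizer ((U.map e.toMonoidHom : Subgroup L) : Set L) := by
  have h := Subgroup.map_equiv_normalizer_eq U e
  have h2 : e x ∈ (normalizer (U : Set R)).map e.toMonoidHom := ⟨x, hx, rfl⟩
  rw [h] at h2
  exact h2

theorem piv_congr (e : R ≃* L) {p r : ℕ} (h : Piv R p r) : Piv L p r := by
  obtain ⟨U, x, hU, hU1, hx, ho, hc⟩ := h
  refine ⟨U.map e.toMonoidHom, e x, hU.map _, ?_, mem_normalizer_map e hx, ?_, ?_⟩
  · rw [Ne, Subgroup.map_eq_bot_iff_of_injective _ e.injective]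
    exact hU1
  · rw [MulEquiv.orderOf_eq]; exact ho
  · rw [eq_bot_iff]
    intro y hy'
    obtain ⟨⟨z, hz, rfl⟩, hy⟩ := Subgroup.mem_inf.1 hy'
    have h1 : z ∈ U ⊓ centralizer {x} := by
      refine Subgroup.mem_inf.2 ⟨hz, ?_⟩
      rw [mem_centralizer_singleton_iff] at hy ⊢
      apply e.injective
      rw [map_mul, map_mul]
      exact hy
    rw [hc, mem_bot] at h1
    rw [h1, mem_bot]
    exact map_one e

theorem isCyclic_congr (e : L ≃* R) {T : Subgroup L} (h : IsCyclic ↥(T.map e.toMonoidHom)) : IsCyclic T :=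
  isCyclic_of_surjective _ (T.equivMapOfInjective e.toMonoidHom e.injective).symm.surjective

theorem isSolvable_congr (e : L ≃* R) {T : Subgroup L}
    (h : Group.IsSolvable ↥(normalizer ((T.map e.toMonoidHom : Subgroup R) : Set R))) :
    Group.IsSolvable ↥(normalizer (T : Set L)) := by
  have h1 : Group.IsSolvable ↥((normalizer (T : Set L)).map e.toMonoidHom) := by
    have h2 := Subgroup.map_equiv_normalizer_eq T e
    rw [h2]; exact h
  exact Group.isSolvable_of_isSolvable_injective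
    (f := ((normalizer (T : Set L)).equivMapOfInjective e.toMonoidHom e.injective).toMonoidHom)
    ((normalizer (T : Set L)).equivMapOfInjective e.toMonoidHom e.injective).injective

end transport

/-! ### Sylow 2-subgroups -/

section two

variable {G : Type u} [Group G] [Finite G]

theorem comm_of_sq {S : Subgroup G} (h2 : ∀ x ∈ S, x * x = 1) {x y : G} (hx : x ∈ S) (hy : y ∈ S) : x * y = y * x :=
  Cfsg.Agent.LieRecognition.ReeInv.comm_of_sq S h2 hx hy

theorem piv_three_of (S : Sylow 2 G) (hc : centralizer ((S : Subgroup G) : Set G) = (S : Subgroup G))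
    (hN : 3 ∣ Nat.card ↥(normalizer ((S : Subgroup G) : Set G))) (h2 : ∀ x ∈ (S : Subgroup G), x * x = 1) :
    Piv G 2 3 := by
  have : Fact (Nat.Prime 3) := ⟨Nat.prime_three⟩
  obtain ⟨⟨g, hg⟩, ho⟩ := exists_prime_orderOf_dvd_card' 3 hN
  rw [Subgroup.orderOf_mk] at ho
  have hg3 : g ^ 3 = 1 := by rw [← ho]; exact pow_orderOf_eq_one g
  have hgS : ∀ s ∈ (S : Subgroup G), g * s * g⁻¹ ∈ (S : Subgroup G) := fun s hs => (mem_normalizer_iff.1 hg s).1 hs
  have hcm : ∀ {x y : G}, x ∈ (S : Subgroup G) → y ∈ (S : Subgroup G) → x * y = y * x := fun hx hy => comm_of_sq h2 hx hy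
  let U : Subgroup G :=
    { carrier := {y | ∃ s ∈ (S : Subgroup G), y = s * (g * s * g⁻¹)}
      one_mem' := ⟨1, one_mem _, by group⟩
      mul_mem' := by
        rintro _ _ ⟨s, hs, rfl⟩ ⟨t, ht, rfl⟩
        refine ⟨s * t, mul_mem hs ht, ?_⟩
        have h1 := hcm (hgS s hs) ht
        calc s * (g * s * g⁻¹) * (t * (g * t * g⁻¹)) = s * ((g * s * g⁻¹) * t) * (g * t * g⁻¹) := by group
          _ = s * (t * (g * s * g⁻¹)) * (g * t * g⁻¹) := by rw [h1]
          _ = s * t * (g * (s * t) * g⁻¹) := by group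
      inv_mem' := by
        rintro _ ⟨s, hs, rfl⟩
        refine ⟨s⁻¹, inv_mem hs, ?_⟩
        have h1 := hcm (inv_mem (hgS s hs)) (inv_mem hs)
        calc (s * (g * s * g⁻¹))⁻¹ = (g * s * g⁻¹)⁻¹ * s⁻¹ := by group
          _ = s⁻¹ * (g * s * g⁻¹)⁻¹ := h1
          _ = _ := by group }
  have hUS : U ≤ (S : Subgroup G) := by
    rintro _ ⟨s, hs, rfl⟩
    exact mul_mem hs (hgS s hs)
  refine ⟨U, g, S.isPGroup'.to_le hUS, ?_, ?_, ho, ?_⟩
  · intro hU
    have h3 : g ∈ centralizer ((S : Subgroup G) : Set G) := by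
      rw [mem_centralizer_iff]
      intro s hs
      have h4 : s * (g * s * g⁻¹) ∈ U := ⟨s, hs, rfl⟩
      rw [hU, mem_bot] at h4
      have h5 : g * s * g⁻¹ = s := by
        calc g * s * g⁻¹ = s * s * (g * s * g⁻¹) := by rw [h2 s hs, one_mul]
          _ = s * (s * (g * s * g⁻¹)) := by group
          _ = s := by rw [h4, mul_one]
      calc s * g = (g * s * g⁻¹) * g := by rw [h5]
        _ = g * s := by group
    rw [hc] at h3
    have h4 := h2 g h3
    have h5 : g = 1 := by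
      calc g = g ^ 3 * (g * g)⁻¹ := by group
        _ = 1 := by rw [hg3, h4]; group
    rw [h5, orderOf_one] at ho
    norm_num at ho
  · apply Cfsg.Agent.LieRecognition.ReeInv.mem_normalizer_of_forall
    rintro _ ⟨s, hs, rfl⟩
    exact ⟨g * s * g⁻¹, hgS s hs, by group⟩
  · rw [eq_bot_iff]
    intro y hy'
    obtain ⟨⟨s, hs, hy⟩, hyc⟩ := Subgroup.mem_inf.1 hy'
    rw [mem_centralizer_singleton_iff] at hyc
    have hyS : y ∈ (S : Subgroup G) := by rw [hy]; exact mul_mem hs (hgS s hs)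
    have h3 : g * y * g⁻¹ = y := by rw [← hyc]; group
    have hs1 := hgS s hs
    have hs2 := hgS _ hs1
    have e3 : g * (g * (g * s * g⁻¹) * g⁻¹) * g⁻¹ = s := by
      have hg3' : g * g * g = 1 := by rw [← hg3, pow_succ, pow_two]
      calc g * (g * (g * s * g⁻¹) * g⁻¹) * g⁻¹ = (g * g * g) * s * (g * g * g)⁻¹ := by
            simp only [mul_inv_rev, mul_assoc]
        _ = s := by rw [hg3']; group
    have e1 : y = s * (g * s * g⁻¹) := hy
    have e2 : y = (g * s * g⁻¹) * (g * (g * s * g⁻¹) * g⁻¹) := by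
      calc y = g * y * g⁻¹ := h3.symm
        _ = _ := by rw [e1]; group
    have e4 : y = (g * (g * s * g⁻¹) * g⁻¹) * s := by
      calc y = g * y * g⁻¹ := h3.symm
        _ = (g * (g * s * g⁻¹) * g⁻¹) * (g * (g * (g * s * g⁻¹) * g⁻¹) * g⁻¹) := by rw [e2]; group
        _ = _ := by rw [e3]
    rw [mem_bot]
    calc y = y * y * y := by rw [h2 y hyS, one_mul]
      _ = (s * (g * s * g⁻¹)) * ((g * s * g⁻¹) * (g * (g * s * g⁻¹) * g⁻¹)) * ((g * (g * s * g⁻¹) * g⁻¹) * s) := by
          rw [← e1, ← e2, ← e4]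
      _ = s * ((g * s * g⁻¹) * (g * s * g⁻¹)) * ((g * (g * s * g⁻¹) * g⁻¹) * (g * (g * s * g⁻¹) * g⁻¹)) * s := by
          group
      _ = 1 := by rw [h2 _ hs1, h2 _ hs2, mul_one, mul_one, h2 s hs]

theorem piv_seven_of (S : Sylow 2 G) (hc : centralizer ((S : Subgroup G) : Set G) = (S : Subgroup G))
    (hN : 7 ∣ Nat.card ↥(normalizer ((S : Subgroup G) : Set G))) (h8 : Nat.card (S : Subgroup G) = 8)
    (h2 : ∀ x ∈ (S : Subgroup G), x * x = 1) : Piv G 2 7 := by
  have h7p : Fact (Nat.Prime 7) := ⟨by norm_num⟩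
  obtain ⟨⟨g, hg⟩, ho⟩ := exists_prime_orderOf_dvd_card' 7 hN
  rw [Subgroup.orderOf_mk] at ho
  refine ⟨S, g, S.isPGroup', ?_, hg, ho, ?_⟩
  · intro h
    rw [h, Subgroup.card_bot] at h8
    norm_num at h8
  · -- fixed points
    let φ : ↥(zpowers (⟨g, hg⟩ : ↥(normalizer ((S : Subgroup G) : Set G)))) →* MulAut ↥(S : Subgroup G) :=
      ((S : Subgroup G).normalizerMonoidHom).comp (Subgroup.subtype _)
    let _ : MulAction ↥(zpowers (⟨g, hg⟩ : ↥(normalizer ((S : Subgroup G) : Set G)))) ↥(S : Subgroup G) :=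
      MulAction.compHom _ φ
    have hp : IsPGroup 7 ↥(zpowers (⟨g, hg⟩ : ↥(normalizer ((S : Subgroup G) : Set G)))) := by
      apply IsPGroup.of_card (n := 1)
      rw [Nat.card_zpowers, Subgroup.orderOf_mk, ho, pow_one]
    have hmod := hp.card_modEq_card_fixedPoints ↥(S : Subgroup G)
    rw [h8] at hmod
    have hfix : ∀ x : ↥(S : Subgroup G),
        x ∈ MulAction.fixedPoints ↥(zpowers (⟨g, hg⟩ : ↥(normalizer ((S : Subgroup G) : Set G)))) ↥(S : Subgroup G) ↔
          g * (x : G) * g⁻¹ = x := by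
      intro x
      constructor
      · intro hx
        have h3 := hx ⟨⟨g, hg⟩, mem_zpowers _⟩
        have h4 : ((⟨⟨g, hg⟩, mem_zpowers _⟩ :
          ↥(zpowers (⟨g, hg⟩ : ↥(normalizer ((S : Subgroup G) : Set G))))) • x : ↥(S : Subgroup G)) = x := h3
        exact congrArg Subtype.val h4
      · intro hx
        rintro ⟨z, hz⟩
        obtain ⟨k, rfl⟩ := mem_zpowers_iff.1 hz
        apply Subtype.ext
        show (g ^ k) * (x : G) * (g ^ k)⁻¹ = x
        have hcx : Commute g (x : G) := by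
          show g * x = x * g
          calc g * (x : G) = (g * x * g⁻¹) * g := by group
            _ = x * g := by rw [hx]
        have := (hcx.zpow_left k).eq
        rw [this]; group
    have hle : Nat.card ↥(MulAction.fixedPoints ↥(zpowers (⟨g, hg⟩ : ↥(normalizer ((S : Subgroup G) : Set G))))
        ↥(S : Subgroup G)) ≤ 8 := by
      rw [← h8]
      exact Nat.card_le_card_of_injective _ Subtype.val_injective
    have hcases : Nat.card ↥(MulAction.fixedPoints ↥(zpowers (⟨g, hg⟩ : ↥(normalizer ((S : Subgroup G) : Set G))))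
        ↥(S : Subgroup G)) = 1 ∨ Nat.card ↥(MulAction.fixedPoints
          ↥(zpowers (⟨g, hg⟩ : ↥(normalizer ((S : Subgroup G) : Set G)))) ↥(S : Subgroup G)) = 8 := by
      unfold Nat.ModEq at hmod
      omega
    rcases hcases with h1 | h1
    · rw [eq_bot_iff]
      intro y hy'
      obtain ⟨hy, hyc⟩ := Subgroup.mem_inf.1 hy'
      rw [mem_centralizer_singleton_iff] at hyc
      have hsub := (Nat.card_eq_one_iff_unique.1 h1).1
      have m1 : (⟨y, hy⟩ : ↥(S : Subgroup G)) ∈ MulAction.fixedPoints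
          ↥(zpowers (⟨g, hg⟩ : ↥(normalizer ((S : Subgroup G) : Set G)))) ↥(S : Subgroup G) := by
        rw [hfix]
        show g * y * g⁻¹ = y
        rw [← hyc]; group
      have m2 : (1 : ↥(S : Subgroup G)) ∈ MulAction.fixedPoints
          ↥(zpowers (⟨g, hg⟩ : ↥(normalizer ((S : Subgroup G) : Set G)))) ↥(S : Subgroup G) := by
        rw [hfix]
        show g * 1 * g⁻¹ = 1
        group
      have h3 := hsub.elim ⟨_, m1⟩ ⟨_, m2⟩
      have h4 : (⟨y, hy⟩ : ↥(S : Subgroup G)) = 1 := congrArg Subtype.val h3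
      exact congrArg Subtype.val h4
    · exfalso
      have huniv : ∀ x : ↥(S : Subgroup G), x ∈ MulAction.fixedPoints
          ↥(zpowers (⟨g, hg⟩ : ↥(normalizer ((S : Subgroup G) : Set G)))) ↥(S : Subgroup G) := by
        intro x
        have hb : Function.Bijective (Subtype.val : ↥(MulAction.fixedPoints
            ↥(zpowers (⟨g, hg⟩ : ↥(normalizer ((S : Subgroup G) : Set G)))) ↥(S : Subgroup G)) → ↥(S : Subgroup G)) := by
          rw [Nat.bijective_iff_injective_and_card]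
          exact ⟨Subtype.val_injective, by rw [h1, h8]⟩
        obtain ⟨y, hy⟩ := hb.2 x
        rw [← hy]; exact y.2
      have h3 : g ∈ centralizer ((S : Subgroup G) : Set G) := by
        rw [mem_centralizer_iff]
        intro s hs
        have h4 := (hfix ⟨s, hs⟩).1 (huniv _)
        have h5 : g * s * g⁻¹ = s := h4
        calc s * g = (g * s * g⁻¹) * g := by rw [h5]
          _ = g * s := by group
      rw [hc] at h3
      have h4 := h2 g h3
      have h5 : orderOf g ∣ 2 := orderOf_dvd_of_pow_eq_one (by rw [pow_two, h4])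
      rw [ho] at h5
      norm_num at h5

end two

/-! ### solvable normalizers -/

section solv

variable {G : Type u} [Group G] [Finite G]

theorem isSolvable_normalizer_of_cyclic {C : Subgroup G} (hC : IsCyclic C)
    (hs : Group.IsSolvable ↥(centralizer (C : Set G))) : Group.IsSolvable ↥(normalizer (C : Set G)) := by
  have h1 : Group.IsSolvable ↥((C.normalizerMonoidHom).ker) := by
    rw [Subgroup.normalizerMonoidHom_ker]
    exact Group.isSolvable_of_isSolvable_injective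
      (f := (Subgroup.subgroupOfEquivOfLe (Subgroup.centralizer_le_normalizer (s := (C : Set G)))).toMonoidHom)
      (Subgroup.subgroupOfEquivOfLe (Subgroup.centralizer_le_normalizer (s := (C : Set G)))).injective
  have h2 : Group.IsSolvable (MulAut ↥C) := Group.isSolvable_of_comm fun a b => by
    apply (IsCyclic.mulAutMulEquiv ↥C).injective
    rw [map_mul, map_mul, mul_comm]
  exact Group.isSolvable_of_ker_le_range (C.normalizerMonoidHom.ker).subtype C.normalizerMonoidHom (by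
    rw [Subgroup.range_subtype])

theorem isSolvable_of_comm_subgroup {C : Subgroup G} (h : ∀ x ∈ C, ∀ y ∈ C, x * y = y * x) : Group.IsSolvable ↥C :=
  Group.isSolvable_of_comm fun a b => Subtype.ext (h a a.2 b b.2)

theorem isSolvable_of_le {A B : Subgroup G} (h : A ≤ B) (hB : Group.IsSolvable ↥B) : Group.IsSolvable ↥A :=
  Group.isSolvable_of_isSolvable_injective (f := Subgroup.inclusion h) (Subgroup.inclusion_injective h)

theorem isSolvable_normalizer_conj {C : Subgroup G} (g : G) (h : Group.IsSolvable ↥(normalizer (C : Set G))) :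
    Group.IsSolvable ↥(normalizer ((C.map (MulAut.conj g).toMonoidHom : Subgroup G) : Set G)) := by
  have h2 := Subgroup.map_equiv_normalizer_eq C (MulAut.conj g)
  rw [← h2]
  exact Group.isSolvable_of_isSolvable_injective
    (f := ((normalizer (C : Set G)).equivMapOfInjective (MulAut.conj g).toMonoidHom (MulAut.conj g).injective).symm.toMonoidHom)
    ((normalizer (C : Set G)).equivMapOfInjective (MulAut.conj g).toMonoidHom (MulAut.conj g).injective).symm.injective

end solv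

section main

open Cfsg.Agent.LieRecognition
open Cfsg.Agent.LieRecognition.ReeInv
open Cfsg.Agent.LieRecognition.ReeTorusB
open Cfsg.Agent.LieRecognition.ReeClass
open Cfsg.Agent.H125.ReeFull Cfsg.Agent.H125.ReeSolv

variable {K : Type*} [Field K] [Fintype K] {G : Type*} [Group G] [Finite G] {m : ℕ}
  {U : K → K → K → G} {h : Kˣ → G} {n : G}

theorem isSolvable_bSub (D : ReeAbs.Data m U h n) (hK : Fintype.card K = 3 ^ (2 * m + 1)) :
    Group.IsSolvable ↥(ReeSplit.bSub D) := by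
  have : Fact (Nat.Prime 3) := ⟨Nat.prime_three⟩
  have hn : ((ReeSylowThree.uSub D).subgroupOf (ReeSplit.bSub D)).Normal := ⟨by
    rintro ⟨x, hx⟩ hxu ⟨g, hg⟩
    exact ReeSplit.conj_mem_uSub D hg hxu⟩
  have h3 : IsPGroup 3 ↥(ReeSylowThree.uSub D) := by
    apply IsPGroup.of_card (n := (2 * m + 1) * 3)
    rw [ReeSylowThree.card_uSub D, hK, pow_mul]
  have h4 : Group.IsSolvable ↥((ReeSylowThree.uSub D).subgroupOf (ReeSplit.bSub D)) := by
    have h5 : Group.IsNilpotent ↥(ReeSylowThree.uSub D) := h3.isNilpotent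
    have h6 : Group.IsSolvable ↥(ReeSylowThree.uSub D) := inferInstance
    exact Group.isSolvable_of_isSolvable_injective
      (f := (Subgroup.subgroupOfEquivOfLe (ReeSplit.uSub_le_bSub D)).toMonoidHom)
      (Subgroup.subgroupOfEquivOfLe (ReeSplit.uSub_le_bSub D)).injective
  have h7 : Group.IsSolvable (↥(ReeSplit.bSub D) ⧸ (ReeSylowThree.uSub D).subgroupOf (ReeSplit.bSub D)) := by
    have key : ∀ x : ↥(ReeSplit.bSub D) ⧸ (ReeSylowThree.uSub D).subgroupOf (ReeSplit.bSub D),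
        ∃ a : Kˣ, x = QuotientGroup.mk ⟨h a, ReeSplit.h_mem_bSub D a⟩ := by
      intro x
      obtain ⟨⟨g, hg⟩, rfl⟩ := QuotientGroup.mk_surjective x
      obtain ⟨t, u, v, a, rfl⟩ := (ReeSplit.mem_bSub D).1 hg
      refine ⟨a, ?_⟩
      rw [QuotientGroup.eq_iff_div_mem, Subgroup.mem_subgroupOf]
      show U t u v * h a / h a ∈ ReeSylowThree.uSub D
      rw [mul_div_cancel_right]
      exact ⟨t, u, v, rfl⟩
    refine Group.isSolvable_of_comm fun x y => ?_
    obtain ⟨a, rfl⟩ := key x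
    obtain ⟨b, rfl⟩ := key y
    rw [← QuotientGroup.mk_mul, ← QuotientGroup.mk_mul]
    congr 1
    exact Subtype.ext (D.h_comm a b)
  exact Group.isSolvable_of_ker_le_range ((ReeSylowThree.uSub D).subgroupOf (ReeSplit.bSub D)).subtype
    (QuotientGroup.mk' ((ReeSylowThree.uSub D).subgroupOf (ReeSplit.bSub D))) (by
      rw [QuotientGroup.ker_mk', Subgroup.range_subtype])

/-- centralizers of singletons -/
theorem centralizer_le {C A : Subgroup G} {x : G} (hx : x ∈ C) (h : ∀ y, y * x = x * y → y ∈ A) :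
    centralizer (C : Set G) ≤ A := by
  intro y hy
  exact h y (mem_centralizer_iff.1 hy x hx).symm

/-- **solvability of the normalizers of the nontrivial `p`-subgroups, `p` odd** -/
theorem solvable_normalizer (D : ReeAbs.Data m U h n) (hm : 1 ≤ m) (hK : Fintype.card K = 3 ^ (2 * m + 1))
    (hG : commutator G = ⊤)
    (hcyc : ∀ x : G, x ≠ 1 → orderOf x ∣ (3 ^ (2 * m + 1)) ^ 2 - 3 ^ (2 * m + 1) + 1 →
      IsCyclic (centralizer {x}) ∧
        Nat.card (normalizer (centralizer {x} : Set G)) ∣ 6 * Nat.card (centralizer {x}))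
    {p : ℕ} (hp : p.Prime) (hp2 : p ≠ 2) {T : Subgroup G} (hT : IsPGroup p T) (hT1 : T ≠ ⊥) :
    Group.IsSolvable ↥(normalizer (T : Set G)) := by
  classical
  have : CharP K 3 := ReeAbs.charP_three hK
  have Dl := ReeSetup.local_of_data D hK
  have ar := ReeClass.arith m
  obtain ⟨f, t₀, S⟩ := ReeSetup.exists_setup D hK hG Dl
  obtain ⟨A1, A2, z1, z2, k1, k2, n1, n2, x1, x2, hcov⟩ := ReeSetup.exists_tori D hm hK hG hcyc
  have factp : Fact p.Prime := ⟨hp⟩
  have hTodd : ∀ y ∈ T, Odd (orderOf y) := by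
    intro y hy
    obtain ⟨k, hk⟩ := IsPGroup.iff_orderOf.1 hT ⟨y, hy⟩
    rw [Subgroup.orderOf_mk] at hk
    rw [hk]
    exact (hp.odd_of_ne_two hp2).pow
  have hnorm : ∀ s ∈ normalizer (T : Set G), ∀ x ∈ T, s⁻¹ * x * s ∈ T := by
    intro s hs x hx
    have := (mem_normalizer_iff.1 ((normalizer (T : Set G)).inv_mem hs) x).1 hx
    rwa [inv_inv] at this
  obtain ⟨z, hz, hz1, hzc⟩ := exists_central hT hT1
  have hq27 : 27 ≤ 3 ^ (2 * m + 1) := by
    calc 27 = 3 ^ 3 := by norm_num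
      _ ≤ 3 ^ (2 * m + 1) := Nat.pow_le_pow_right (by norm_num) (by omega)
  rcases classify Dl ar S hz1 (hTodd z hz) with ⟨g, hg⟩ | ⟨g, hg⟩ | ⟨g, hg⟩ | hg
  · refine isSolvable_of_le (le_normalizer_of_TI (fun x hx hx1 y hy ho => (Dl.cent_U x hx hx1 y hy).2 ho)
      (fun x hx hx1 g hg y hy => Dl.B_U g (Dl.TI_U x hx hx1 g hg) y hy) hTodd hnorm hz hz1 hzc hg)
      (isSolvable_normalizer_conj g ?_)
    have hne : ReeSylowThree.uSub D ≠ ⊥ := by
      intro h0
      rw [h0, mem_bot] at hg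
      exact conj_ne hz1 g hg
    have h1 := H125.TwoReeSyl.normalizer_eq D hne
    rw [h1]
    exact isSolvable_bSub D hK
  · refine isSolvable_of_le (le_normalizer_of_TI (fun x hx hx1 y hy ho => Dl.odd_H y (Dl.cent_A x hx hx1 y hy) ho)
      (fun x hx hx1 g hg y hy => Dl.N_A g (Dl.TI_A x hx hx1 g hg) y hy) hTodd hnorm hz hz1 hzc hg)
      (isSolvable_normalizer_conj g ?_)
    refine isSolvable_normalizer_of_cyclic (ReeSplit.isCyclic_aSub D) (isSolvable_of_le
      (centralizer_le hg (fun y hy => Dl.cent_A _ hg (conj_ne hz1 g) y hy)) ?_)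
    refine isSolvable_of_comm_subgroup fun x hx y hy => ?_
    obtain ⟨a, rfl⟩ := (ReeSplit.mem_hSub D).1 hx
    obtain ⟨b, rfl⟩ := (ReeSplit.mem_hSub D).1 hy
    exact D.h_comm a b
  · refine isSolvable_of_le (le_normalizer_of_TI (fun x hx hx1 y hy ho => S.odd_EA (S.cent_x hx hx1 hy) ho)
      (fun x hx hx1 g hg y hy => S.N_norm_A (S.TI hx hx1 hg) hy) hTodd hnorm hz hz1 hzc hg)
      (isSolvable_normalizer_conj g ?_)
    exact isSolvable_normalizer_of_cyclic S.cyclic_A (isSolvable_of_le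
      (centralizer_le hg (fun y hy => S.cent_x hg (conj_ne hz1 g) hy))
      (isSolvable_of_comm_subgroup fun x hx y hy => S.EA_comm hx hy))
  · have key : ∀ C : Subgroup G, IsCyclic C → (∀ x ∈ C, x ≠ 1 → centralizer {x} = C) → ∀ g, g * z * g⁻¹ ∈ C →
        Group.IsSolvable ↥(normalizer (T : Set G)) := by
      intro C hCc hC g hg
      have hle : normalizer (T : Set G) ≤ normalizer ((C.map (MulAut.conj g⁻¹).toMonoidHom : Subgroup G) : Set G) := by
        refine le_normalizer_of_TI ?_ ?_ hTodd hnorm hz hz1 hzc (by rwa [inv_inv])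
        · intro x hx hx1 y hy _
          rw [← hC x hx hx1, mem_centralizer_singleton_iff]
          exact hy
        · intro x hx hx1 g hg y hy
          have h1 := (normalizer (C : Set G)).inv_mem (mem_normalizer_of_conj hC hx hx1 hg)
          have h2 := (mem_normalizer_iff.1 h1 y).1 hy
          rwa [inv_inv] at h2
      refine isSolvable_of_le hle (isSolvable_normalizer_conj _ ?_)
      have hg1 : g * z * g⁻¹ ≠ 1 := by
        have := conj_ne hz1 g⁻¹
        rwa [inv_inv] at this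
      refine isSolvable_normalizer_of_cyclic hCc (isSolvable_of_le (centralizer_le hg (A := C) fun y hy => ?_) ?_)
      · rw [← hC _ hg hg1, mem_centralizer_singleton_iff]
        exact hy
      · refine isSolvable_of_comm_subgroup fun x hx y hy => ?_
        have h1 := hCc.commGroup.mul_comm ⟨x, hx⟩ ⟨y, hy⟩
        exact congrArg Subtype.val h1
    obtain ⟨g, hg | hg⟩ := hcov z hz1 hg
    · exact key A1 z1 x1 g hg
    · exact key A2 z2 x2 g hg

/-- an element of order `r`, `r ∣ q - 1`, acting without fixed points on a Sylow 3-subgroup -/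
theorem piv_split (D : ReeAbs.Data m U h n) (hK : Fintype.card K = 3 ^ (2 * m + 1)) {r : ℕ} (hr : r.Prime)
    (hr2 : r ≠ 2) (hd : r ∣ 3 ^ (2 * m + 1) - 1) : Piv G 3 r := by
  have factr : Fact r.Prime := ⟨hr⟩
  have Dl := ReeSetup.local_of_data D hK
  have ar := ReeClass.arith m
  have h1 : r ∣ Nat.card ↥(ReeSplit.aSub D) := by
    rw [ReeSplit.card_aSub D hK]
    have h2 : 3 ^ (2 * m + 1) - 1 = 2 * ((3 ^ (2 * m + 1) - 1) / 2) := by
      have := ar.q8
      omega
    rw [h2] at hd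
    rcases hr.dvd_mul.1 hd with h3 | h3
    · exact absurd ((Nat.prime_dvd_prime_iff_eq hr Nat.prime_two).1 h3) hr2
    · exact h3
  obtain ⟨⟨x, hx⟩, ho⟩ := exists_prime_orderOf_dvd_card' r h1
  rw [Subgroup.orderOf_mk] at ho
  have hx1 : x ≠ 1 := by
    rintro rfl
    rw [orderOf_one] at ho
    exact hr.one_lt.ne ho
  obtain ⟨a, rfl⟩ := (ReeSplit.mem_hSub D).1 (ReeSplit.aSub_le D hx)
  refine ⟨ReeSylowThree.uSub D, h a, ?_, ?_, ?_, ho, ?_⟩
  · apply IsPGroup.of_card (n := (2 * m + 1) * 3)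
    rw [ReeSylowThree.card_uSub D, hK, pow_mul]
  · intro h0
    have h2 := ReeSylowThree.card_uSub D
    rw [h0, Subgroup.card_bot, hK, ← pow_mul] at h2
    have h3 : 1 < 3 ^ ((2 * m + 1) * 3) := Nat.one_lt_pow (by omega) (by norm_num)
    omega
  · exact mem_normalizer_of_forall fun y hy => ReeSplit.conj_mem_uSub D (ReeSplit.h_mem_bSub D a) hy
  · rw [eq_bot_iff]
    intro y hy'
    obtain ⟨hy, hyc⟩ := Subgroup.mem_inf.1 hy'
    rw [mem_centralizer_singleton_iff] at hyc
    have h2 : y ∈ ReeSplit.hSub D := Dl.cent_A _ hx hx1 y hyc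
    have h3 : y ^ 9 = 1 := ReeSplit.pow_nine D hK hy
    have h4 : orderOf y ∣ 9 := orderOf_dvd_of_pow_eq_one h3
    have h5 : orderOf y ∣ 3 ^ (2 * m + 1) - 1 := by
      have := Subgroup.orderOf_dvd_natCard _ h2
      rwa [ReeSplit.card_hSub D, hK] at this
    have h6 : Nat.Coprime 9 (3 ^ (2 * m + 1) - 1) := by
      have h7 : ¬ 3 ∣ 3 ^ (2 * m + 1) - 1 := ar.three_not.2.1
      rw [show 9 = 3 ^ 2 by norm_num]
      exact Nat.Coprime.pow_left _ ((Nat.Prime.coprime_iff_not_dvd Nat.prime_three).2 h7)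
    rw [mem_bot]
    exact orderOf_eq_one_iff.1 (Nat.eq_one_of_dvd_coprimes h6 h4 h5)

theorem coprime_exp (m : ℕ) : Nat.Coprime (3 ^ (2 * m + 1) - 1) (2 * 3 ^ (m + 1) + 3) := by
  have ar := ReeClass.arith m
  rw [Nat.coprime_iff_gcd_eq_one]
  obtain ⟨d, hd⟩ : ∃ d, d = Nat.gcd (3 ^ (2 * m + 1) - 1) (2 * 3 ^ (m + 1) + 3) := ⟨_, rfl⟩
  rw [← hd]
  have h1 : d ∣ 3 ^ (2 * m + 1) - 1 := by rw [hd]; exact Nat.gcd_dvd_left _ _
  have h2 : d ∣ 2 * 3 ^ (m + 1) + 3 := by rw [hd]; exact Nat.gcd_dvd_right _ _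
  have h3 : ((d : ℕ) : ℤ) ∣ 3 := by
    have h4 : ((d : ℕ) : ℤ) ∣ (3 ^ (2 * m + 1) - 1 : ℤ) := by
      have : ((3 ^ (2 * m + 1) - 1 : ℕ) : ℤ) = 3 ^ (2 * m + 1) - 1 := by
        rw [Nat.cast_sub (Nat.one_le_pow _ _ (by norm_num))]; push_cast; ring
      rw [← this]; exact_mod_cast h1
    have h5 : ((d : ℕ) : ℤ) ∣ (2 * 3 ^ (m + 1) + 3 : ℤ) := by exact_mod_cast h2
    have h6 : (3 : ℤ) = (2 * 3 ^ (m + 1) + 3) * (2 * 3 ^ (m + 1) - 3) - 12 * (3 ^ (2 * m + 1) - 1) := by
      ring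
    rw [h6]
    exact dvd_sub (Dvd.dvd.mul_right h5 _) (Dvd.dvd.mul_left h4 _)
  have h7 : d ∣ 3 := by exact_mod_cast h3
  rcases (Nat.dvd_prime Nat.prime_three).1 h7 with h8 | h8
  · exact h8
  · rw [h8] at h1
    exact absurd h1 ar.three_not.2.1

theorem exists_three_of (D : ReeAbs.Data m U h n) (hK : Fintype.card K = 3 ^ (2 * m + 1)) :
    ∃ z : G, orderOf z = 3 ∧ ∀ α : MulAut G, ∃ g : G, α z = g * z * g⁻¹ := by
  have f3 : Fact (Nat.Prime 3) := ⟨Nat.prime_three⟩
  have hy := ReeSplit.orderOf_U_one D hK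
  have h1 : U 1 0 0 ^ 3 = U 0 0 (-1) := by
    rw [ReeSplit.U_cube D hK]
    simp
  have hz1 : U 0 0 (-1) ≠ 1 := by
    rw [← D.U_zero]
    intro he
    exact one_ne_zero (neg_eq_zero.mp (ReeSylowThree.U_injective D he).2.2)
  refine ⟨U 0 0 (-1), orderOf_eq_prime (ReeSplit.U_zero_zero_cube D hK _) hz1, fun α => ?_⟩
  have h2 : orderOf (α (U 1 0 0)) = 3 ^ 2 := by
    rw [MulEquiv.orderOf_eq, hy]; norm_num
  obtain ⟨g, hg⟩ := H125.ReeFull.conj_uSub D hK h2
  obtain ⟨t, u, v, e⟩ := (ReeSylowThree.mem_uSub D).1 hg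
  have h3 : g⁻¹ * α (U 0 0 (-1)) * g = U 0 0 (-(t ^ 2 * t ^ (3 ^ (m + 1)))) := by
    rw [← h1, map_pow, ← ReeSplit.U_cube D hK t u v, ← e]
    simp only [pow_succ, pow_zero, one_mul]
    group
  have ht : t ^ 2 * t ^ (3 ^ (m + 1)) ≠ 0 := by
    intro h0
    rw [h0, neg_zero, D.U_zero] at h3
    apply hz1
    have h4 : α (U 0 0 (-1)) = 1 := by
      calc α (U 0 0 (-1)) = g * (g⁻¹ * α (U 0 0 (-1)) * g) * g⁻¹ := by group
        _ = 1 := by rw [h3]; group
    exact (map_eq_one_iff α α.injective).1 h4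
  obtain ⟨w, hw⟩ : ∃ w : Kˣ, (w : K) = t ^ 2 * t ^ (3 ^ (m + 1)) := ⟨Units.mk0 _ ht, rfl⟩
  have hcop : (Nat.card Kˣ).Coprime (2 * 3 ^ (m + 1) + 3) := by
    rw [Nat.card_units, Nat.card_eq_fintype_card, hK]
    exact coprime_exp m
  obtain ⟨a, ha⟩ := (powCoprime hcop).surjective w
  have ha' : (a : K) ^ (2 * 3 ^ (m + 1) + 3) = t ^ 2 * t ^ (3 ^ (m + 1)) := by
    rw [← hw, ← ha]
    simp [powCoprime]
  refine ⟨g * h a, ?_⟩
  have h5 : h a * U 0 0 (-1) = U 0 0 (-(t ^ 2 * t ^ (3 ^ (m + 1)))) * h a := by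
    rw [D.h_U, ha']
    simp
  calc α (U 0 0 (-1)) = g * (g⁻¹ * α (U 0 0 (-1)) * g) * g⁻¹ := by group
    _ = g * (h a * U 0 0 (-1) * (h a)⁻¹) * g⁻¹ := by rw [h3, h5]; group
    _ = _ := by group

end main

/-! ### the model -/

section model

open Cfsg.Agent.LieRecognition

variable {K : Type} [Field K] [Fintype K] {m : ℕ}

theorem finite_model (hK : Fintype.card K = 3 ^ (2 * m + 1)) : Finite ↥(Cfsg.Lie.twistedG2 K (3 ^ m)) :=
  ReeSylowThree.finite (ReeFinal.data hK)

end model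

end H829Ree

variable {m : ℕ} {L : Type u} [Group L] [Finite L]

open Cfsg.Agent.LieRecognition H829Ree in
theorem IsRee.card (h : IsRee m L) : Nat.card L = reeCard m := by
  obtain ⟨hm, K, _, _, hK, ⟨e⟩⟩ := h
  rw [Nat.card_congr e.toEquiv, ReeFinal.card hK, reeCard]
  ring

theorem IsRee.simple (h : IsRee m L) : IsSimpleGroup L := by
  obtain ⟨hm, K, _, _, hK, ⟨e⟩⟩ := h
  have := (Cfsg.Agent.S1073.result hm hK).1
  exact e.isSimpleGroup

theorem IsRee.perfect (h : IsRee m L) : ⁅(⊤ : Subgroup L), (⊤ : Subgroup L)⁆ = ⊤ := by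
  obtain ⟨hm, K, _, _, hK, ⟨e⟩⟩ := h
  have h1 := Cfsg.Agent.S1116.result hK hm
  have h2 := Subgroup.map_commutator (⊤ : Subgroup ↥(Cfsg.Lie.twistedG2 K (3 ^ m))) ⊤ e.symm.toMonoidHom
  rw [Subgroup.map_top_of_surjective _ e.symm.surjective, ← commutator_def, h1,
    Subgroup.map_top_of_surjective _ e.symm.surjective] at h2
  exact h2.symm

open Cfsg.Agent.LieRecognition H829Ree in
theorem IsRee.piv_three (h : IsRee m L) : Piv L 2 3 := by
  obtain ⟨hm, K, _, _, hK, ⟨e⟩⟩ := h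
  have := finite_model hK
  obtain ⟨S⟩ : Nonempty (Sylow 2 ↥(Cfsg.Lie.twistedG2 K (3 ^ m))) := inferInstance
  have h1 := Cfsg.Agent.S1157.result hm hK S
  have h2 := (ReeFinal.data hK).sylow_two hK (ReeFinal.card hK) S
  exact piv_congr e.symm (piv_three_of S h1.1 (by rw [h1.2]; norm_num) h2.2)

open Cfsg.Agent.LieRecognition H829Ree in
theorem IsRee.piv_seven (h : IsRee m L) : Piv L 2 7 := by
  obtain ⟨hm, K, _, _, hK, ⟨e⟩⟩ := h
  have := finite_model hK
  obtain ⟨S⟩ : Nonempty (Sylow 2 ↥(Cfsg.Lie.twistedG2 K (3 ^ m))) := inferInstance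
  have h1 := Cfsg.Agent.S1157.result hm hK S
  have h2 := (ReeFinal.data hK).sylow_two hK (ReeFinal.card hK) S
  exact piv_congr e.symm (piv_seven_of S h1.1 (by rw [h1.2]; norm_num) h2.1 h2.2)

open Cfsg.Agent.LieRecognition H829Ree in
theorem IsRee.piv (h : IsRee m L) {r : ℕ} (hr : r.Prime) (hr2 : r ≠ 2) (hd : r ∣ 3 ^ (2 * m + 1) - 1) : Piv L 3 r := by
  obtain ⟨hm, K, _, _, hK, ⟨e⟩⟩ := h
  have := finite_model hK
  exact piv_congr e.symm (piv_split (ReeFinal.data hK) hK hr hr2 hd)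

open Cfsg.Agent.LieRecognition H829Ree in
theorem IsRee.isCyclic (h : IsRee m L) {p : ℕ} (hp : p.Prime) (hp3 : 3 < p)
    {T : Subgroup L} (hT : IsPGroup p T) : IsCyclic T := by
  obtain ⟨hm, K, _, _, hK, ⟨e⟩⟩ := h
  have := finite_model hK
  have : Fact p.Prime := ⟨hp⟩
  obtain ⟨P, hP⟩ := (hT.map e.toMonoidHom).exists_le_sylow
  have h1 := Cfsg.Agent.S1156.result hm hK hp3 P
  exact isCyclic_congr e (isCyclic_of_injective (Subgroup.inclusion hP) (Subgroup.inclusion_injective hP))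

open Cfsg.Agent.LieRecognition H829Ree in
theorem IsRee.isSolvable_normalizer (h : IsRee m L) {p : ℕ} (hp : p.Prime) (hp2 : p ≠ 2) {T : Subgroup L}
    (hT : IsPGroup p T) (hT1 : T ≠ ⊥) : Group.IsSolvable (normalizer (T : Set L)) := by
  obtain ⟨hm, K, _, _, hK, ⟨e⟩⟩ := h
  have := finite_model hK
  refine isSolvable_congr e (solvable_normalizer (ReeFinal.data hK) hm hK (Cfsg.Agent.S1116.result hK hm)
    (fun x hx hx1 => ReeTorusTw.isCyclic_centralizer hK hx hx1) hp hp2 (hT.map _) ?_)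
  rw [Ne, Subgroup.map_eq_bot_iff_of_injective _ e.injective]
  exact hT1

open Cfsg.Agent.LieRecognition H829Ree in
theorem IsRee.exists_three (h : IsRee m L) :
    ∃ z : L, orderOf z = 3 ∧ ∀ α : MulAut L, ∃ g : L, α z ∈ zpowers (g * z * g⁻¹) := by
  obtain ⟨hm, K, _, _, hK, ⟨e⟩⟩ := h
  have := finite_model hK
  obtain ⟨z, hz, hα⟩ := exists_three_of (ReeFinal.data hK) hK
  refine ⟨e.symm z, by rw [MulEquiv.orderOf_eq]; exact hz, fun α => ?_⟩
  obtain ⟨g, hg⟩ := hα ((e.symm.trans α).trans e)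
  refine ⟨e.symm g, ?_⟩
  have h1 : e (α (e.symm z)) = g * z * g⁻¹ := hg
  have h2 : α (e.symm z) = e.symm g * e.symm z * (e.symm g)⁻¹ := by
    apply e.injective
    rw [h1, map_mul, map_mul, map_inv, e.apply_symm_apply, e.apply_symm_apply]
  rw [h2]
  exact mem_zpowers _

end Cfsg.Agent.H389.RSq
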